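import Groth.Agent.AlgSpPts.Field
import Groth.Agent.AlgSpLib.Points
import Groth.Agent.AlgSpLib.Rep
import Groth.Agent.EtFound.SectionUnr
import Groth.Agent.AlgSpDec.LqfSplitShrink

/-!
# Elementary etale neighbourhoods of a point of an algebraic space
-/

set_option autoImplicit false
set_option maxHeartbeats 400000
set_option backward.isDefEq.respectTransparency false
set_option backward.isDefEq.respectTransparency.types false

universe u

open CategoryTheory CategoryTheory.Limits AlgebraicGeometry AlgSp Groth.Agent.AlgSpLib Groth.Agent.AlgSpDec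

namespace Groth.Agent.AlgSpElem

variable {S : Scheme.{u}} {F : Sp S}

/-- The inclusion of a point as a morphism over the base. -/
noncomputable def ptι {U : Over S} (u : ↥U.left) : Over.mk (U.left.fromSpecResidueField u ≫ U.hom) ⟶ U :=
  Over.homMk (U.left.fromSpecResidueField u) rfl

theorem toHom_eq {U : Over S} (a : (yon S).obj U ⟶ F) (u : ↥U.left) :
    (FieldPt.ofPt a u).toHom = (yon S).map (ptι u) ≫ a :=
  FieldPt.toHom_ofPt a u

theorem exists_spec_factor {W : Scheme.{u}} (u : W) {L : Type u} [Field L]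
    (c : Spec (CommRingCat.of L) ⟶ W) (h : c (IsLocalRing.closedPoint L) = u) :
    ∃ φ : Spec (CommRingCat.of L) ⟶ Spec (W.residueField u), φ ≫ W.fromSpecResidueField u = c := by
  subst h
  exact ⟨_, Scheme.descResidueField_stalkClosedPointTo_fromSpecResidueField L W c⟩

theorem exists_ptι_factor {U : Over S} (u : ↥U.left) {L : Type u} [Field L]
    {str : Spec (CommRingCat.of L) ⟶ S} (m : Over.mk str ⟶ U) (h : m.left (IsLocalRing.closedPoint L) = u) :
    ∃ k : Over.mk str ⟶ Over.mk (U.left.fromSpecResidueField u ≫ U.hom), k ≫ ptι u = m := by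
  obtain ⟨c, hc⟩ : ∃ c : Spec (CommRingCat.of L) ⟶ U.left, c = m.left := ⟨_, rfl⟩
  obtain ⟨φ, hφ⟩ := exists_spec_factor u c (hc ▸ h)
  refine ⟨Over.homMk φ ?_, Over.OverMorphism.ext (hφ.trans hc)⟩
  change φ ≫ U.left.fromSpecResidueField _ ≫ U.hom = str
  rw [reassoc_of% hφ, hc]
  exact Over.w m

/-- Two elementary neighbourhoods: the point of the first maps to the point of the second. -/
theorem exists_pt_hom (hF : IsAlgSpace F) {U₁ U₂ : Over S} {a₁ : (yon S).obj U₁ ⟶ F} {a₂ : (yon S).obj U₂ ⟶ F}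
    {u₁ : ↥U₁.left} {u₂ : ↥U₂.left} {x : Points F} (h₁ : IsElemEtaleNbhd a₁ u₁ x) (h₂ : IsElemEtaleNbhd a₂ u₂ x) :
    ∃ k : Over.mk (U₁.left.fromSpecResidueField u₁ ≫ U₁.hom) ⟶ Over.mk (U₂.left.fromSpecResidueField u₂ ≫ U₂.hom),
      (yon S).map k ≫ (yon S).map (ptι u₂) ≫ a₂ = (yon S).map (ptι u₁) ≫ a₁ := by
  have := h₂.mono
  obtain ⟨k, hk, -⟩ := AlgSpPts.existsUnique_factor (K := U₂.left.residueField u₂)
    (FieldPt.ofPt a₂ u₂).toHom (hF.representable_from_yon _) (L := U₁.left.residueField u₁)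
    (FieldPt.ofPt a₁ u₁).toHom
    ((Points.ofPt_toHom _ _).trans (h₂.ofPt_eq.trans (h₁.ofPt_eq.symm.trans (Points.ofPt_toHom _ _).symm)))
  exact ⟨k, by rw [← toHom_eq, ← toHom_eq]; exact hk⟩

theorem exists_refine (hF : IsAlgSpace F) {U₁ U₂ : Over S} {a₁ : (yon S).obj U₁ ⟶ F} {a₂ : (yon S).obj U₂ ⟶ F}
    {u₁ : ↥U₁.left} {u₂ : ↥U₂.left} {x : Points F} (h₁ : IsElemEtaleNbhd a₁ u₁ x) (h₂ : IsElemEtaleNbhd a₂ u₂ x) :
    ∃ (U : Over S) (a : (yon S).obj U ⟶ F) (v : ↥U.left) (g₁ : U ⟶ U₁) (g₂ : U ⟶ U₂),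
      IsElemEtaleNbhd a v x ∧ (yon S).map g₁ ≫ a₁ = a ∧ (yon S).map g₂ ≫ a₂ = a ∧ g₁.left v = u₁ ∧ g₂.left v = u₂ := by
  obtain ⟨k, hk⟩ := exists_pt_hom hF h₁ h₂
  let R := h₂.etale.rep.pullback a₁
  let q₁ : R ⟶ U₁ := h₂.etale.rep.snd a₁
  let q₂ : R ⟶ U₂ := h₂.etale.rep.fst' a₁
  have sq : IsPullback ((yon S).map q₂) ((yon S).map q₁) a₂ a₁ := h₂.etale.rep.isPullback' a₁
  let K := U₁.left.residueField u₁
  obtain ⟨m, hm⟩ := (yon S).map_surjective (sq.lift ((yon S).map k ≫ (yon S).map (ptι u₂))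
    ((yon S).map (ptι u₁)) (by rw [Category.assoc, hk]))
  have hm₁ : m ≫ q₁ = ptι u₁ := (yon S).map_injective (by rw [Functor.map_comp, hm, sq.lift_snd])
  have hm₂ : m ≫ q₂ = k ≫ ptι u₂ := (yon S).map_injective (by
    rw [Functor.map_comp, hm, sq.lift_fst, Functor.map_comp])
  let v : ↥R.left := m.left (IsLocalRing.closedPoint K)
  have hv₁ : q₁.left v = u₁ := by
    change (m.left ≫ q₁.left) _ = u₁
    rw [← Over.comp_left, hm₁]
    exact Scheme.fromSpecResidueField_apply _ _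
  have hv₂ : q₂.left v = u₂ := by
    change (m.left ≫ q₂.left) _ = u₂
    rw [← Over.comp_left, hm₂, Over.comp_left, Scheme.Hom.comp_apply]
    exact U₂.left.fromSpecResidueField_apply u₂ _
  refine ⟨R, (yon S).map q₁ ≫ a₁, v, q₁, q₂, ⟨?_, ?_, ?_⟩, rfl, sq.w, hv₁, hv₂⟩
  · exact repWith_comp ((repWith_yon_map_iff _ _).2 (h₂.etale.property_snd a₁)) h₁.etale
  · rw [ofPt_comp, hv₁]; exact h₁.ofPt_eq
  · obtain ⟨j, hj⟩ := exists_ptι_factor v m rfl
    obtain ⟨r, hr⟩ := exists_ptι_factor u₁ (ptι v ≫ q₁) (by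
      rw [Over.comp_left, Scheme.Hom.comp_apply]
      exact (congrArg q₁.left (Scheme.fromSpecResidueField_apply _ _)).trans hv₁)
    have hjr : j ≫ r = 𝟙 _ := by
      have : Mono (ptι u₁) := (Over.forget S).mono_of_mono_map
        (inferInstanceAs (Mono (U₁.left.fromSpecResidueField u₁)))
      rw [← cancel_mono (ptι u₁), Category.assoc, hr, reassoc_of% hj, hm₁, Category.id_comp]
    have hiso : IsIso r := by
      obtain ⟨φ, hφ⟩ := Spec.map_surjective r.left
      obtain ⟨ψ, hψ⟩ := Spec.map_surjective j.left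
      have : φ ≫ ψ = 𝟙 _ := Spec.map_injective (by
        rw [Spec.map_comp, Spec.map_id, hφ, hψ, ← Over.comp_left, hjr]; rfl)
      have hψi : Function.Injective ψ.hom := ψ.hom.injective
      have hψs : Function.Surjective ψ.hom := fun c => ⟨φ.hom c, by
        change (φ ≫ ψ).hom c = c; rw [this]; rfl⟩
      have : IsIso ψ := (ConcreteCategory.isIso_iff_bijective ψ).2 ⟨hψi, hψs⟩
      have : IsIso j.left := by rw [← hψ]; infer_instance
      have : IsIso ((Over.forget S).map j) := this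
      have : IsIso j := isIso_of_reflects_iso j (Over.forget S)
      rw [IsIso.eq_inv_of_hom_inv_id hjr]
      infer_instance
    rw [toHom_eq, ← Category.assoc, ← Functor.map_comp, ← hr, Functor.map_comp, Category.assoc, ← toHom_eq]
    have := h₁.mono
    exact mono_comp _ _

theorem exists_equalize (hF : IsAlgSpace F) {U₁ U₂ : Over S} {a₁ : (yon S).obj U₁ ⟶ F} {a₂ : (yon S).obj U₂ ⟶ F}
    {u₁ : ↥U₁.left} {u₂ : ↥U₂.left} {x : Points F} (b c : U₁ ⟶ U₂) (h₁ : IsElemEtaleNbhd a₁ u₁ x)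
    (h₂ : IsElemEtaleNbhd a₂ u₂ x) (hb : (yon S).map b ≫ a₂ = a₁) (hc : (yon S).map c ≫ a₂ = a₁)
    (hbu : b.left u₁ = u₂) (hcu : c.left u₁ = u₂) :
    ∃ (U : Over S) (a : (yon S).obj U ⟶ F) (v : ↥U.left) (g : U ⟶ U₁),
      IsElemEtaleNbhd a v x ∧ (yon S).map g ≫ a₁ = a ∧ g.left v = u₁ ∧ g ≫ b = g ≫ c := by
  obtain ⟨kb, hkb⟩ := exists_ptι_factor u₂ (ptι u₁ ≫ b) (by
    rw [Over.comp_left, Scheme.Hom.comp_apply]
    exact (congrArg b.left (Scheme.fromSpecResidueField_apply _ _)).trans hbu)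
  obtain ⟨kc, hkc⟩ := exists_ptι_factor u₂ (ptι u₁ ≫ c) (by
    rw [Over.comp_left, Scheme.Hom.comp_apply]
    exact (congrArg c.left (Scheme.fromSpecResidueField_apply _ _)).trans hcu)
  have hk : kb = kc := (yon S).map_injective (by
    have := h₂.mono
    rw [← cancel_mono (FieldPt.ofPt a₂ u₂).toHom, toHom_eq, ← Category.assoc, ← Category.assoc, ← Functor.map_comp,
      ← Functor.map_comp, hkb, hkc, Functor.map_comp, Functor.map_comp, Category.assoc, Category.assoc, hb, hc])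
  let R := h₂.etale.rep.pullback a₂
  let r₁ : R ⟶ U₂ := h₂.etale.rep.fst' a₂
  let r₂ : R ⟶ U₂ := h₂.etale.rep.snd a₂
  have sq : IsPullback ((yon S).map r₁) ((yon S).map r₂) a₂ a₂ := h₂.etale.rep.isPullback' a₂
  have : Etale r₂.left := h₂.etale.property_snd a₂
  obtain ⟨δ, hδ⟩ := (yon S).map_surjective (sq.lift (𝟙 _) (𝟙 _) rfl)
  have hδ₁ : δ ≫ r₁ = 𝟙 U₂ := (yon S).map_injective (by
    rw [Functor.map_comp, hδ, sq.lift_fst, CategoryTheory.Functor.map_id])
  have hδ₂ : δ ≫ r₂ = 𝟙 U₂ := (yon S).map_injective (by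
    rw [Functor.map_comp, hδ, sq.lift_snd, CategoryTheory.Functor.map_id])
  have : IsOpenImmersion δ.left := EtFound.isOpenImmersion_section (p := r₂.left) δ.left
    (by rw [← Over.comp_left, hδ₂]; rfl)
  obtain ⟨ρ, hρ⟩ := (yon S).map_surjective (sq.lift ((yon S).map b) ((yon S).map c) (hb.trans hc.symm))
  have hρ₁ : ρ ≫ r₁ = b := (yon S).map_injective (by rw [Functor.map_comp, hρ, sq.lift_fst])
  have hρ₂ : ρ ≫ r₂ = c := (yon S).map_injective (by rw [Functor.map_comp, hρ, sq.lift_snd])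
  let W : U₁.left.Opens := ρ.left ⁻¹ᵁ δ.left.opensRange
  have huW : u₁ ∈ W := by
    have : ptι u₁ ≫ ρ = (kb ≫ ptι u₂) ≫ δ := (yon S).map_injective (sq.hom_ext
      (by rw [← Functor.map_comp, ← Functor.map_comp, Category.assoc, hρ₁, Category.assoc, hδ₁, Category.comp_id, hkb])
      (by rw [← Functor.map_comp, ← Functor.map_comp, Category.assoc, hρ₂, Category.assoc, hδ₂, Category.comp_id, hk,
        hkc]))
    refine ⟨(kb ≫ ptι u₂).left (IsLocalRing.closedPoint (U₁.left.residueField u₁)), ?_⟩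
    have := congrArg (fun t => t.left (IsLocalRing.closedPoint (U₁.left.residueField u₁))) this
    refine this.symm.trans ?_
    rw [Over.comp_left, Scheme.Hom.comp_apply]
    exact congrArg ρ.left (Scheme.fromSpecResidueField_apply _ _)
  let U : Over S := Over.mk (W.ι ≫ U₁.hom)
  let g : U ⟶ U₁ := Over.homMk W.ι rfl
  have hgbc : g ≫ b = g ≫ c := by
    have hr : ∀ y, (g ≫ ρ).left y ∈ Set.range δ.left := fun y => y.2
    obtain ⟨l, hl⟩ := exists_factor_openImm δ (g ≫ ρ) hr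
    rw [← hρ₁, ← hρ₂, ← Category.assoc, ← Category.assoc, ← hl, Category.assoc, Category.assoc, hδ₁, hδ₂]
  refine ⟨U, (yon S).map g ≫ a₁, ⟨u₁, huW⟩, g, ⟨?_, ?_, ?_⟩, rfl, rfl, hgbc⟩
  · exact repWith_comp ((repWith_yon_map_iff _ _).2 (inferInstanceAs (Etale W.ι))) h₁.etale
  · rw [ofPt_comp]; exact h₁.ofPt_eq
  · let v : ↥U.left := ⟨u₁, huW⟩
    obtain ⟨r, hr⟩ := exists_ptι_factor u₁ (ptι v ≫ g) (by
      rw [Over.comp_left, Scheme.Hom.comp_apply]
      exact congrArg g.left (Scheme.fromSpecResidueField_apply _ _))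
    have : Mono g := (Over.forget S).mono_of_mono_map (inferInstanceAs (Mono W.ι))
    have : Mono (ptι v) := (Over.forget S).mono_of_mono_map
      (inferInstanceAs (Mono (U.left.fromSpecResidueField v)))
    have hmv : Mono (r ≫ ptι u₁) := by rw [hr]; exact mono_comp _ _
    have : Mono r := mono_of_mono r (ptι u₁)
    rw [toHom_eq, ← Category.assoc, ← Functor.map_comp, ← hr, Functor.map_comp, Category.assoc, ← toHom_eq]
    have := h₁.mono
    exact mono_comp _ _

end Groth.Agent.AlgSpElem
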