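import Groth.Agent.AlgSpElem.Henselization
import Groth.Agent.AlgSpLib.LocP
import Groth.Agent.BrnchLib.NormBij
import Groth.Agent.BrnchLib.HenzMin
import Groth.Agent.BrnchLib.Unibranch
import Groth.Agent.Hensel.Henselization
import Groth.Agent.Hensel.HenselizationDescent
import Groth.Agent.S2284
import Groth.Prelude.Def_Brnch

/-!
# Branches of a decent space at a point through elementary etale neighbourhoods
-/

set_option autoImplicit false
set_option maxHeartbeats 1600000
set_option backward.isDefEq.respectTransparency false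
set_option backward.isDefEq.respectTransparency.types false

universe u

open CategoryTheory CategoryTheory.Limits AlgebraicGeometry AlgSp Groth.Agent.AlgSpLib IsLocalRing Groth.Agent.Hensel

namespace Groth.Agent.AlgSpElem

/-- Finitely many minimal primes of a henselization stay distinct in an etale neighbourhood with the
same residue field. -/
theorem exists_etale_separating {A : Type u} [CommRing A] (O : Type u) [CommRing O] [IsLocalRing O] [Algebra A O]
    (p : Ideal A) [p.IsPrime] [IsLocalization.AtPrime O p] (R : Type u) [CommRing R] [IsLocalRing R] [Algebra O R]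
    [IsLocalHom (algebraMap O R)] [_root_.Hensel.IsHenselization O R] (t : Finset (Ideal R))
    (ht : ↑t ⊆ minimalPrimes R) :
    ∃ (B : Type u) (_ : CommRing B) (_ : Algebra A B) (_ : Algebra.Etale A B) (τ : B →ₐ[A] ResidueField O),
      (t.card : ℕ∞) ≤ {P | P ∈ minimalPrimes B ∧ P ≤ RingHom.ker τ}.encard := by
  classical
  let _ : Algebra A R := ((algebraMap O R).comp (algebraMap A O)).toAlgebra
  have : IsScalarTower A O R := IsScalarTower.of_algebraMap_eq fun _ => rfl
  have : HenselianLocalRing R := _root_.Hensel.IsHenselization.henselian O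
  have : Nontrivial (Henz A (ResidueField O)) := (Henz.proj A (ResidueField O)).toRingHom.domain_nontrivial
  have : IsLocalRing (Henz A (ResidueField O)) := .of_nonunits_add fun a b ha hb => by
    simp only [mem_nonunits_iff, Henz.isUnit_iff, isUnit_iff_ne_zero, not_not] at ha hb ⊢
    rw [map_add, ha, hb, add_zero]
  have hm : maximalIdeal (Henz A (ResidueField O)) = RingHom.ker (Henz.proj A (ResidueField O)) := by
    ext x
    rw [IsLocalRing.mem_maximalIdeal, mem_nonunits_iff, Henz.isUnit_iff, isUnit_iff_ne_zero, not_not,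
      RingHom.mem_ker]
  have : HenselianRing (Henz A (ResidueField O)) (maximalIdeal (Henz A (ResidueField O))) := by rw [hm]; exact Henz.henselianRing
  have : HenselianLocalRing (Henz A (ResidueField O)) := henselianLocalRing_of_henselianRing _
  -- the map to the given henselization
  let θ₀ : (ResidueField O) →ₐ[A] R ⧸ maximalIdeal R :=
    { (ResidueField.map (algebraMap O R) : (ResidueField O) →+* ResidueField R) with
      commutes' := fun r => rfl }
  obtain ⟨Φ, hΦ, -⟩ := Henz.existsUnique_lift (R := A) (K := (ResidueField O)) (maximalIdeal R)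
    (θ₀.comp (Henz.proj A (ResidueField O)).range.val)
  -- is surjective
  have hι : ∀ c : p.primeCompl, IsUnit (algebraMap A (Henz A (ResidueField O)) c) := fun c => by
    rw [Henz.isUnit_iff, AlgHom.commutes, IsScalarTower.algebraMap_apply A O (ResidueField O)]
    exact (IsLocalization.map_units O c).map _
  let ι : O →+* (Henz A (ResidueField O)) := IsLocalization.lift (M := p.primeCompl) hι
  have hιA : ι.comp (algebraMap A O) = algebraMap A (Henz A (ResidueField O)) := IsLocalization.lift_comp _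
  have hιp : (Henz.proj A (ResidueField O)).toRingHom.comp ι = residue O := IsLocalization.ringHom_ext p.primeCompl (by
    rw [RingHom.comp_assoc, hιA]
    exact (Henz.proj A (ResidueField O)).comp_algebraMap)
  have : IsLocalHom ι := ⟨fun o ho => by
    have h1 := ho.map (Henz.proj A (ResidueField O)).toRingHom
    rw [← RingHom.comp_apply, hιp] at h1
    exact (isUnit_map_iff (residue O) o).1 h1⟩
  obtain ⟨ψ, hψ, -⟩ := _root_.Hensel.IsHenselization.universal (R := O) (S := R) (Henz A (ResidueField O)) ι ‹_›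
  have hid : Φ.toRingHom.comp ψ = RingHom.id R :=
    (_root_.Hensel.IsHenselization.universal (R := O) (S := R) R (algebraMap O R) ‹_›).unique
      (by
        rw [RingHom.comp_assoc, hψ]
        refine IsLocalization.ringHom_ext p.primeCompl ?_
        rw [RingHom.comp_assoc, hιA]
        exact Φ.comp_algebraMap)
      (RingHom.id_comp _)
  -- separating elements
  let P := (t ×ˢ t).filter fun x => ¬ x.1 ≤ x.2
  have hsep : ∀ x : P, ∃ z, z ∈ x.1.1 ∧ z ∉ x.1.2 := fun x =>
    SetLike.not_le_iff_exists.1 (Finset.mem_filter.1 x.2).2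
  choose z hz₁ hz₂ using hsep
  obtain ⟨N, -, hN⟩ := Henz.exists_of_finset (Classical.arbitrary (Nbhd A (ResidueField O)))
    (Finset.univ.image fun x : P => ψ (z x))
  let β : N.B →ₐ[A] R := Φ.comp ((Henz.of N).comp (IsScalarTower.toAlgHom A N.B N.Stage))
  have hβu : ∀ s : N.S, IsUnit (β s) := fun s =>
    (((IsLocalization.map_units N.Stage s).map (Henz.of N)).map Φ)
  refine ⟨N.B, inferInstance, inferInstance, inferInstance, N.toK, ?_⟩
  have hminA : ∀ I ∈ minimalPrimes R, ∀ q : Ideal A, q.IsPrime → q ≤ I.comap (algebraMap A R) →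
      I.comap (algebraMap A R) ≤ q := fun I hI q hq hle => by
    haveI := hI.1.1
    haveI := hq
    have hIO := (BrnchLib.mem_minimalPrimes_iff_comap (isHenzLike_of_isHenselization O R)).1 hI
    have e : I.comap (algebraMap A R) = (I.comap (algebraMap O R)).comap (algebraMap A O) := by
      rw [Ideal.comap_comap, ← IsScalarTower.algebraMap_eq]
    have hdis : Disjoint (p.primeCompl : Set A) (q : Set A) := by
      refine Set.disjoint_left.2 fun c hc hcq => ?_
      have h1 : algebraMap A O c ∈ I.comap (algebraMap O R) := (e ▸ hle) hcq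
      exact hIO.1.1.ne_top (Ideal.eq_top_of_isUnit_mem _ h1 (IsLocalization.map_units O ⟨c, hc⟩))
    have hqO := IsLocalization.isPrime_of_isPrime_disjoint p.primeCompl O q hq hdis
    have h2 : I.comap (algebraMap O R) ≤ q.map (algebraMap A O) :=
      hIO.2 ⟨hqO, bot_le⟩ (Ideal.map_le_iff_le_comap.2 (e ▸ hle))
    rw [e]
    exact (Ideal.comap_mono h2).trans
      (IsLocalization.comap_map_of_isPrime_disjoint p.primeCompl O hq hdis).le
  let f : Ideal R → Ideal N.B := fun I => I.comap β
  have hf : ∀ I ∈ t, f I ∈ minimalPrimes N.B ∧ f I ≤ RingHom.ker N.toK := fun I hI => by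
    haveI := (ht hI).1.1
    refine ⟨⟨⟨Ideal.IsPrime.comap _, bot_le⟩, fun q ⟨hq, _⟩ hle => ?_⟩, fun b hb => ?_⟩
    · haveI := hq
      haveI : (f I).IsPrime := Ideal.IsPrime.comap _
      have e : (f I).under A = I.comap (algebraMap A R) := by
        ext r
        show β (algebraMap A N.B r) ∈ I ↔ algebraMap A R r ∈ I
        rw [AlgHom.commutes]
      have h1 : q.under A = (f I).under A := le_antisymm (Ideal.comap_mono hle) (by
        rw [e]
        exact hminA I (ht hI) _ (Ideal.IsPrime.under A q) (e ▸ Ideal.comap_mono hle))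
      exact (Algebra.QuasiFinite.eq_of_le_of_under_eq (R := A) q (f I) hle h1).ge
    · by_contra hne
      exact (ht hI).1.1.ne_top (Ideal.eq_top_of_isUnit_mem _ hb
        (hβu ⟨b, isUnit_iff_ne_zero.2 (by simpa [RingHom.mem_ker] using hne)⟩))
  have hinj : ∀ I ∈ t, ∀ J ∈ t, f I = f J → I ≤ J := fun I hI J hJ h => by
    by_contra hne
    let x : P := ⟨(I, J), Finset.mem_filter.2 ⟨Finset.mem_product.2 ⟨hI, hJ⟩, hne⟩⟩
    obtain ⟨y, hy⟩ := hN _ (Finset.mem_image.2 ⟨x, Finset.mem_univ _, rfl⟩)
    obtain ⟨⟨b, s⟩, hbs⟩ := IsLocalization.surj N.S y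
    have hb : β b = z x * β s := by
      show Φ (Henz.of N (algebraMap N.B N.Stage b)) = _ * Φ (Henz.of N (algebraMap N.B N.Stage s))
      rw [← hbs, map_mul, map_mul, hy]
      exact congrArg (· * _) congr($hid (z x))
    refine hz₂ x ?_
    have h1 : b ∈ f I := show β b ∈ I from hb ▸ Ideal.mul_mem_right _ _ (hz₁ x)
    rw [h] at h1
    have h2 : z x * β s ∈ J := hb ▸ h1
    exact ((ht hJ).1.1.mem_or_mem h2).resolve_right fun h3 =>
      (ht hJ).1.1.ne_top (Ideal.eq_top_of_isUnit_mem _ h3 (hβu s))
  calc (t.card : ℕ∞) = ((f '' ↑t) : Set (Ideal N.B)).encard := by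
        rw [Set.InjOn.encard_image fun I hI J hJ h => le_antisymm (hinj I hI J hJ h) (hinj J hJ I hI h.symm),
          Set.encard_coe_eq_coe_finsetCard]
    _ ≤ _ := Set.encard_le_encard fun J ⟨I, hI, hIJ⟩ => hIJ ▸ hf I hI

variable {S : Scheme.{u}} {F : Sp S}

/-- A lift of the point makes a composite with an etale morphism an elementary neighbourhood. -/
theorem isElemEtaleNbhd_comp {x : Points F} {U U' : Over S} {a : (yon S).obj U ⟶ F} {u : ↥U.left}
    (h : IsElemEtaleNbhd a u x) (g : U' ⟶ U) [Etale g.left]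
    (m : Over.mk (U.left.fromSpecResidueField u ≫ U.hom) ⟶ U') (hm : m ≫ g = ptι u) (v : ↥U'.left)
    (hv : m.left (IsLocalRing.closedPoint (U.left.residueField u)) = v) :
    IsElemEtaleNbhd ((yon S).map g ≫ a) v x := by
  have hv₁ : g.left v = u := by
    rw [← hv]
    change (m.left ≫ g.left) _ = u
    rw [← Over.comp_left, hm]
    exact Scheme.fromSpecResidueField_apply _ _
  refine ⟨repWith_comp ((repWith_yon_map_iff _ g).2 inferInstance) h.etale, ?_, ?_⟩
  · rw [ofPt_comp, hv₁]; exact h.ofPt_eq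
  · obtain ⟨j, hj⟩ := exists_ptι_factor v m hv
    obtain ⟨r, hr⟩ := exists_ptι_factor u (ptι v ≫ g) (by
      rw [Over.comp_left, Scheme.Hom.comp_apply]
      exact (congrArg g.left (Scheme.fromSpecResidueField_apply _ _)).trans hv₁)
    have hjr : j ≫ r = 𝟙 _ := by
      have : Mono (ptι u) := (Over.forget S).mono_of_mono_map
        (inferInstanceAs (Mono (U.left.fromSpecResidueField u)))
      rw [← cancel_mono (ptι u), Category.assoc, hr, reassoc_of% hj, hm, Category.id_comp]
    have hiso : IsIso r := by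
      obtain ⟨φ, hφ⟩ := Spec.map_surjective r.left
      obtain ⟨ψ, hψ⟩ := Spec.map_surjective j.left
      have : φ ≫ ψ = 𝟙 _ := Spec.map_injective (by
        rw [Spec.map_comp, Spec.map_id, hφ, hψ, ← Over.comp_left, hjr]; rfl)
      have hψi : Function.Injective ψ.hom := ψ.hom.injective
      have hψs : Function.Surjective ψ.hom := fun c => ⟨φ.hom c, by
        change (φ ≫ ψ).hom c = c; rw [this]; rfl⟩
      have : IsIso ψ := (ConcreteCategory.isIso_iff_bijective ψ).2 ⟨hψi, hψs⟩
      have : IsIso j.left := by rw [← hψ]; infer_instance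
      have : IsIso ((Over.forget S).map j) := this
      have : IsIso j := isIso_of_reflects_iso j (Over.forget S)
      rw [IsIso.eq_inv_of_hom_inv_id hjr]
      infer_instance
    rw [toHom_eq, ← Category.assoc, ← Functor.map_comp, ← hr, Functor.map_comp, Category.assoc, ← toHom_eq]
    have := h.mono
    exact mono_comp _ _

/-- Finitely many minimal primes of a henselization stay distinct in some elementary neighbourhood. -/
theorem exists_nbhd_card_le {x : Points F} {U : Over S} {a : (yon S).obj U ⟶ F} {u : ↥U.left}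
    (h : IsElemEtaleNbhd a u x) (R : Type u) [CommRing R] [IsLocalRing R]
    [Algebra (U.left.presheaf.stalk u) R] [IsLocalHom (algebraMap (U.left.presheaf.stalk u) R)]
    [_root_.Hensel.IsHenselization (U.left.presheaf.stalk u) R] (t : Finset (Ideal R)) (ht : ↑t ⊆ minimalPrimes R) :
    ∃ (U' : Over S) (a' : (yon S).obj U' ⟶ F) (v : ↥U'.left), IsElemEtaleNbhd a' v x ∧
      (t.card : ℕ∞) ≤ (minimalPrimes (U'.left.presheaf.stalk v)).encard := by
  obtain ⟨W, hW, huW, -⟩ := exists_isAffineOpen_mem_and_subset (X := U.left) (x := u) (U := ⊤) trivial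
  letI := TopCat.Presheaf.algebra_section_stalk U.left.presheaf (⟨u, huW⟩ : W)
  haveI := hW.isLocalization_stalk ⟨u, huW⟩
  obtain ⟨B, _, _, _, τ, hτ⟩ := exists_etale_separating (U.left.presheaf.stalk u)
    (hW.primeIdealOf ⟨u, huW⟩).asIdeal R t ht
  let q : Spec (CommRingCat.of B) ⟶ U.left :=
    Spec.map (CommRingCat.ofHom (algebraMap Γ(U.left, W) B)) ≫ hW.fromSpec
  haveI : Etale (Spec.map (CommRingCat.ofHom (algebraMap Γ(U.left, W) B))) :=
    (HasRingHomProperty.Spec_iff (P := @Etale)).2 (RingHom.etale_algebraMap.2 inferInstance)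
  let g : Over.mk (q ≫ U.hom) ⟶ U := Over.homMk q rfl
  haveI : Etale g.left := show Etale q from inferInstance
  have hc : Spec.map (CommRingCat.ofHom τ.toRingHom) ≫ q = U.left.fromSpecResidueField u := by
    rw [← Category.assoc, ← Spec.map_comp, Scheme.fromSpecResidueField,
      ← hW.fromSpecStalk_eq_fromSpecStalk huW, IsAffineOpen.fromSpecStalk, ← Category.assoc, ← Spec.map_comp]
    congr 2
    exact CommRingCat.hom_ext τ.comp_algebraMap
  let m : Over.mk (U.left.fromSpecResidueField u ≫ U.hom) ⟶ Over.mk (q ≫ U.hom) :=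
    Over.homMk (Spec.map (CommRingCat.ofHom τ.toRingHom)) (by
      show _ ≫ q ≫ U.hom = _
      rw [← Category.assoc, hc]
      rfl)
  let v : PrimeSpectrum B := PrimeSpectrum.comap τ.toRingHom (IsLocalRing.closedPoint (U.left.residueField u))
  refine ⟨_, (yon S).map g ≫ a, v, isElemEtaleNbhd_comp h g m (Over.OverMorphism.ext hc) v rfl, hτ.trans ?_⟩
  show _ ≤ (minimalPrimes ((Spec (CommRingCat.of B)).presheaf.stalk v)).encard
  let O' := (Spec (CommRingCat.of B)).presheaf.stalk v
  letI : Algebra B O' := StructureSheaf.stalkAlgebra B v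
  haveI : IsLocalization.AtPrime O' v.asIdeal := StructureSheaf.IsLocalization.to_stalk B v
  have hv : v.asIdeal = RingHom.ker τ := by
    ext b
    show τ b ∈ maximalIdeal (U.left.residueField u) ↔ τ b = 0
    rw [IsLocalRing.maximalIdeal_eq_bot, Ideal.mem_bot]
  have hdis : ∀ P : Ideal B, P ≤ v.asIdeal → Disjoint (v.asIdeal.primeCompl : Set B) (P : Set B) :=
    fun P hP => Set.disjoint_left.2 fun c hc hcP => hc (hP hcP)
  have hback : ∀ P : Ideal B, P.IsPrime → P ≤ v.asIdeal →
      (P.map (algebraMap B O')).comap (algebraMap B O') = P :=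
    fun P hP hle => IsLocalization.comap_map_of_isPrime_disjoint v.asIdeal.primeCompl O' hP (hdis P hle)
  calc _ = ((fun P => P.map (algebraMap B O')) '' {P | P ∈ minimalPrimes B ∧ P ≤ RingHom.ker τ}).encard := by
        rw [Set.InjOn.encard_image]
        intro P hP Q hQ hPQ
        rw [← hback P hP.1.1.1 (hv ▸ hP.2), ← hback Q hQ.1.1.1 (hv ▸ hQ.2)]
        exact congrArg _ hPQ
    _ ≤ _ := Set.encard_le_encard fun J ⟨P, ⟨hP, hPle⟩, hJ⟩ => by
      subst hJ
      refine ⟨⟨IsLocalization.isPrime_of_isPrime_disjoint v.asIdeal.primeCompl O' P hP.1.1 (hdis P (hv ▸ hPle)),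
        bot_le⟩, fun q ⟨hq, _⟩ hle => ?_⟩
      haveI := hq
      have h1 : P ≤ q.comap (algebraMap B O') := hP.2 ⟨Ideal.IsPrime.comap _, bot_le⟩
        ((Ideal.comap_mono hle).trans (hback P hP.1.1 (hv ▸ hPle)).le)
      exact (Ideal.map_mono h1).trans Ideal.map_comap_le

/-- The branch number does not depend on the elementary neighbourhood. -/
theorem numBranchesAt_eq (hF : IsAlgSpace F) {x : Points F} {U U₀ : Over S} {a : (yon S).obj U ⟶ F}
    {a₀ : (yon S).obj U₀ ⟶ F} {u : ↥U.left} {u₀ : ↥U₀.left} (h : IsElemEtaleNbhd a u x)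
    (h₀ : IsElemEtaleNbhd a₀ u₀ x) : Brnch.numBranchesAt U.left u = Brnch.numBranchesAt U₀.left u₀ := by
  obtain ⟨V, b, v, g, g₀, hv, hg, hg₀, rfl, rfl⟩ := exists_refine hF h h₀
  let H := LocalHenz (V.left.presheaf.stalk v)
  have key : ∀ {U₁ : Over S} (a₁ : (yon S).obj U₁ ⟶ F) (g₁ : V ⟶ U₁),
      IsElemEtaleNbhd a₁ (g₁.left v) x → (yon S).map g₁ ≫ a₁ = b →
        Brnch.numBranchesAt U₁.left (g₁.left v) = ENat.card (minimalPrimes H) := fun {U₁} a₁ g₁ h₁ e₁ => by
    haveI : Etale g₁.left := (repWith_yon_map_iff _ g₁).1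
      (repWith_etale_of_comp ((yon S).map g₁) a₁ (by rw [e₁]; exact hv.etale) h₁.etale)
    letI : Algebra (U₁.left.presheaf.stalk (g₁.left v)) H :=
      ((algebraMap (V.left.presheaf.stalk v) H).comp (g₁.left.stalkMap v).hom).toAlgebra
    obtain ⟨_, _⟩ := isHenselization_comp g₁.left v (bijective_residueMap hF a₁ b g₁ v e₁ h₁ hv) H
    exact (BrnchLib.card_minimalPrimes_henselization (A := U₁.left.presheaf.stalk (g₁.left v)) H).symm
  exact (key a g h hg).trans (key a₀ g₀ h₀ hg₀).symm

/-- A local ring has at most as many minimal primes as branches. -/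
theorem encard_minimalPrimes_le_numBranches (A : Type u) [CommRing A] [IsLocalRing A] :
    (minimalPrimes A).encard ≤ Brnch.numBranches A := by
  rw [← BrnchLib.card_minimalPrimes_henselization (A := A) (LocalHenz A), ENat.card_coe_set_eq]
  refine (Set.encard_le_encard (t := Ideal.comap (algebraMap A (LocalHenz A)) '' minimalPrimes (LocalHenz A))
    fun p hp => ?_).trans (Set.encard_image_le _ _)
  exact BrnchLib.exists_minimalPrimes_over (isHenzLike_of_isHenselization A _) hp

/-- The components through a point are the minimal primes of the local ring. -/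
theorem encard_components (X : Scheme.{u}) (x : X) :
    {Z : Set ↥X | Z ∈ irreducibleComponents ↥X ∧ x ∈ Z}.encard = (minimalPrimes (X.presheaf.stalk x)).encard := by
  have hb := Groth.Agent.S2284.result X x
  rw [← hb.image_eq, hb.injOn.encard_image]
  rw [← Set.InjOn.encard_image (f := fun z : PrimeSpectrum (X.presheaf.stalk x) => z.asIdeal)
    (fun z _ w _ e => PrimeSpectrum.ext e)]
  congr 1
  ext I
  constructor
  · rintro ⟨z, hz, rfl⟩
    show z.asIdeal ∈ minimalPrimes _
    rw [← PrimeSpectrum.vanishingIdeal_singleton]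
    exact PrimeSpectrum.vanishingIdeal_mem_minimalPrimes.2 hz
  · intro hI
    refine ⟨⟨I, hI.1.1⟩, PrimeSpectrum.vanishingIdeal_mem_minimalPrimes.1 ?_, rfl⟩
    rw [PrimeSpectrum.vanishingIdeal_singleton]
    exact hI

theorem numBranchesAt_eq_encard (hF : IsAlgSpace F) {x : Points F} {U U₀ : Over S} {a : (yon S).obj U ⟶ F}
    {a₀ : (yon S).obj U₀ ⟶ F} {u : ↥U.left} {u₀ : ↥U₀.left} (h : IsElemEtaleNbhd a u x)
    (h₀ : IsElemEtaleNbhd a₀ u₀ x) (R : Type u) [CommRing R] [IsLocalRing R]
    [Algebra (U₀.left.presheaf.stalk u₀) R] [IsLocalHom (algebraMap (U₀.left.presheaf.stalk u₀) R)]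
    [_root_.Hensel.IsHenselization (U₀.left.presheaf.stalk u₀) R] :
    Brnch.numBranchesAt U.left u = (minimalPrimes R).encard := by
  rw [numBranchesAt_eq hF h h₀, Brnch.numBranchesAt,
    ← BrnchLib.card_minimalPrimes_henselization (A := U₀.left.presheaf.stalk u₀) R, ENat.card_coe_set_eq]

theorem encard_le_of_forall {x : Points F} {U₀ : Over S}
    {a₀ : (yon S).obj U₀ ⟶ F} {u₀ : ↥U₀.left}
    (h₀ : IsElemEtaleNbhd a₀ u₀ x) (R : Type u) [CommRing R] [IsLocalRing R]
    [Algebra (U₀.left.presheaf.stalk u₀) R] [IsLocalHom (algebraMap (U₀.left.presheaf.stalk u₀) R)]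
    [_root_.Hensel.IsHenselization (U₀.left.presheaf.stalk u₀) R] (n : ℕ)
    (h : ∀ (U : Over S) (a : (yon S).obj U ⟶ F) (u : ↥U.left), IsElemEtaleNbhd a u x →
      (minimalPrimes ↥(U.left.presheaf.stalk u)).encard ≤ n) :
    (minimalPrimes R).encard ≤ n := by
  by_contra hlt
  obtain ⟨t, ht, hc⟩ := Set.exists_subset_encard_eq (k := (n : ℕ∞) + 1) (s := minimalPrimes R)
    (Order.add_one_le_of_lt (not_le.1 hlt))
  have htf : t.Finite := Set.finite_of_encard_eq_coe (k := n + 1) (by exact_mod_cast hc)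
  obtain ⟨U, a, u, hu, hle⟩ := exists_nbhd_card_le h₀ R htf.toFinset (by simpa using ht)
  have h1 := hle.trans (h U a u hu)
  rw [← htf.encard_eq_coe_toFinset_card, hc] at h1
  exact absurd h1 (by exact_mod_cast Nat.not_succ_le_self n)

/-- The branch conditions for a bound `n`. -/
theorem encard_eq_iff (hF : IsAlgSpace F) {x : Points F} {U₀ : Over S} {a₀ : (yon S).obj U₀ ⟶ F} {u₀ : ↥U₀.left}
    (h₀ : IsElemEtaleNbhd a₀ u₀ x) (R : Type u) [CommRing R] [IsLocalRing R]
    [Algebra (U₀.left.presheaf.stalk u₀) R] [IsLocalHom (algebraMap (U₀.left.presheaf.stalk u₀) R)]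
    [_root_.Hensel.IsHenselization (U₀.left.presheaf.stalk u₀) R] (n : ℕ) :
    ((∀ (U : Over S) (a : (yon S).obj U ⟶ F) (u : ↥U.left), IsElemEtaleNbhd a u x →
        (minimalPrimes ↥(U.left.presheaf.stalk u)).encard ≤ n) ∧
      (∃ (U : Over S) (a : (yon S).obj U ⟶ F) (u : ↥U.left), IsElemEtaleNbhd a u x ∧
        (minimalPrimes ↥(U.left.presheaf.stalk u)).encard = n)) ↔ (minimalPrimes R).encard = n := by
  have hle : ∀ (U : Over S) (a : (yon S).obj U ⟶ F) (u : ↥U.left), IsElemEtaleNbhd a u x →
      (minimalPrimes ↥(U.left.presheaf.stalk u)).encard ≤ (minimalPrimes R).encard := fun U a u h =>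
    (encard_minimalPrimes_le_numBranches _).trans_eq (numBranchesAt_eq_encard hF h h₀ R)
  refine ⟨fun ⟨h1, U, a, u, hu, h2⟩ => le_antisymm (encard_le_of_forall h₀ R n h1) (h2 ▸ hle U a u hu), fun h => ?_⟩
  refine ⟨fun U a u hu => (hle U a u hu).trans h.le, ?_⟩
  have hfin : (minimalPrimes R).Finite := Set.finite_of_encard_eq_coe h
  obtain ⟨U, a, u, hu, hn⟩ := exists_nbhd_card_le h₀ R hfin.toFinset (by simp)
  rw [← hfin.encard_eq_coe_toFinset_card, h] at hn
  exact ⟨U, a, u, hu, le_antisymm ((hle U a u hu).trans h.le) hn⟩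

end Groth.Agent.AlgSpElem
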