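import Groth.Agent.AlgSpElem.Basic
import Groth.Agent.UnibEtale.Chart
import Groth.Agent.Hensel.Pair
import Groth.Agent.MorLib.WeightFlat
import Groth.Prelude.Def_Hensel

/-!
# Henselizations along morphisms of elementary etale neighbourhoods
-/

set_option autoImplicit false
set_option backward.isDefEq.respectTransparency false
set_option backward.isDefEq.respectTransparency.types false

universe u

open CategoryTheory CategoryTheory.Limits AlgebraicGeometry AlgSp Groth.Agent.AlgSpLib IsLocalRing

namespace Groth.Agent.AlgSpElem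

variable {S : Scheme.{u}} {F : Sp S}

/-- A morphism of elementary neighbourhoods induces an isomorphism of residue fields. -/
theorem bijective_residueMap (hF : IsAlgSpace F) {x : Points F} {U U' : Over S} (a : (yon S).obj U ⟶ F)
    (a' : (yon S).obj U' ⟶ F) (g : U' ⟶ U) (u' : ↥U'.left) (hg : (yon S).map g ≫ a = a')
    (h : IsElemEtaleNbhd a (g.left u') x) (h' : IsElemEtaleNbhd a' u' x) :
    Function.Bijective (ResidueField.map (g.left.stalkMap u').hom) := by
  obtain ⟨k, hk⟩ := exists_pt_hom hF h h'
  let r : Over.mk (U'.left.fromSpecResidueField u' ≫ U'.hom) ⟶ Over.mk (U.left.fromSpecResidueField (g.left u') ≫ U.hom) :=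
    Over.homMk (Spec.map (g.left.residueFieldMap u')) (by
      show Spec.map _ ≫ U.left.fromSpecResidueField _ ≫ U.hom = _
      rw [Scheme.Hom.SpecMap_residueFieldMap_fromSpecResidueField_assoc, Over.w g]
      rfl)
  have hr : r ≫ ptι (g.left u') = ptι u' ≫ g :=
    Over.OverMorphism.ext (Scheme.Hom.SpecMap_residueFieldMap_fromSpecResidueField g.left u')
  have e : (yon S).map r ≫ (yon S).map (ptι (g.left u')) ≫ a = (yon S).map (ptι u') ≫ a' := by
    rw [← hg, ← Functor.map_comp_assoc, hr, Functor.map_comp, Category.assoc]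
  have h1 : k ≫ r = 𝟙 _ := (yon S).map_injective (by
    have := h.mono
    rw [← cancel_mono (FieldPt.ofPt a (g.left u')).toHom, toHom_eq, Functor.map_comp, CategoryTheory.Functor.map_id,
      Category.id_comp, Category.assoc, e, hk])
  have h2 : r ≫ k = 𝟙 _ := (yon S).map_injective (by
    have := h'.mono
    rw [← cancel_mono (FieldPt.ofPt a' u').toHom, toHom_eq, Functor.map_comp, CategoryTheory.Functor.map_id,
      Category.id_comp, Category.assoc, hk, e])
  have : IsIso r := ⟨k, h2, h1⟩
  have : IsIso (Spec.map (g.left.residueFieldMap u')) := inferInstanceAs (IsIso ((Over.forget S).map r))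
  have : IsIso (Scheme.Spec.map (g.left.residueFieldMap u').op) := this
  have : IsIso (g.left.residueFieldMap u').op := isIso_of_fully_faithful Scheme.Spec _
  have : IsIso (g.left.residueFieldMap u') := isIso_of_op _
  exact (ConcreteCategory.isIso_iff_bijective (g.left.residueFieldMap u')).1 this

/-- Etale morphisms with trivial residue extension do not change the henselization. -/
theorem isHenselization_comp {X Y : Scheme.{u}} (f : X ⟶ Y) [Etale f] (x : X)
    (hb : Function.Bijective (ResidueField.map (f.stalkMap x).hom))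
    (R : Type u) [CommRing R] [IsLocalRing R] [Algebra (X.presheaf.stalk x) R]
    [IsLocalHom (algebraMap (X.presheaf.stalk x) R)] [Hensel.IsHenselization (X.presheaf.stalk x) R] :
    letI : Algebra (Y.presheaf.stalk (f x)) R :=
      ((algebraMap (X.presheaf.stalk x) R).comp (f.stalkMap x).hom).toAlgebra
    ∃ (_ : IsLocalHom (algebraMap (Y.presheaf.stalk (f x)) R)),
      Hensel.IsHenselization (Y.presheaf.stalk (f x)) R := by
  letI : Algebra (Y.presheaf.stalk (f x)) R :=
    ((algebraMap (X.presheaf.stalk x) R).comp (f.stalkMap x).hom).toAlgebra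
  haveI hloc : IsLocalHom (algebraMap (Y.presheaf.stalk (f x)) R) :=
    RingHom.isLocalHom_comp (algebraMap (X.presheaf.stalk x) R) (f.stalkMap x).hom
  refine ⟨hloc, ⟨Hensel.IsHenselization.henselian (R := X.presheaf.stalk x), fun T _ _ φ hφ => ?_⟩⟩
  obtain ⟨W, hW, V, hV, hVW, hxV, -, hE⟩ := UnibEtale.exists_etale_chart f x ⊤ trivial
  algebraize [(f.appLE W V hVW).hom]
  have : Algebra.Etale Γ(Y, W) Γ(X, V) := hE
  let gY := (Y.presheaf.germ W (f x) (hVW hxV)).hom
  let gX := (X.presheaf.germ V x hxV).hom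
  have hsq : ∀ r, (f.stalkMap x).hom (gY r) = gX (algebraMap Γ(Y, W) Γ(X, V) r) := fun r => by
    show (f.stalkMap x) (Y.presheaf.germ W (f x) _ r) = X.presheaf.germ V x hxV ((f.appLE W V hVW) r)
    rw [Scheme.Hom.germ_stalkMap_apply, Scheme.Hom.appLE]
    exact (X.presheaf.germ_res_apply (homOfLE hVW) x hxV _).symm
  letI := TopCat.Presheaf.algebra_section_stalk X.presheaf (⟨x, hxV⟩ : V)
  haveI := hV.isLocalization_stalk ⟨x, hxV⟩
  let M := (hV.primeIdealOf ⟨x, hxV⟩).asIdeal.primeCompl
  letI : Algebra Γ(Y, W) T := (φ.comp gY).toAlgebra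
  let e := RingEquiv.ofBijective _ hb
  let α : ResidueField (X.presheaf.stalk x) →+* ResidueField T := (ResidueField.map φ).comp e.symm.toRingHom
  have hα : ∀ s, α (residue _ ((f.stalkMap x).hom s)) = residue T (φ s) := fun s => by
    show ResidueField.map φ (e.symm (residue _ _)) = _
    rw [← ResidueField.map_residue]
    show ResidueField.map φ (e.symm (e (residue _ s))) = _
    rw [e.symm_apply_apply, ResidueField.map_residue]
  let σ : Γ(X, V) →ₐ[Γ(Y, W)] T ⧸ maximalIdeal T :=
    AlgHom.mk (α.comp ((residue _).comp gX)) fun r => by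
      show α (residue _ (gX (algebraMap Γ(Y, W) Γ(X, V) r))) = residue T (φ (gY r))
      rw [← hsq, hα]
  obtain ⟨τ, hτ, huniq⟩ := Hensel.existsUnique_etale_lift_of_algebra (maximalIdeal T) σ
  have hτ' : ∀ c, residue T (τ c) = α (residue _ (gX c)) := fun c => congr($hτ c)
  let ψ : X.presheaf.stalk x →+* T := IsLocalization.lift (M := M) (g := τ.toRingHom) fun c => by
    by_contra hu
    have h0 := (residue_eq_zero_iff (τ (c : Γ(X, V)))).mpr hu
    rw [hτ', map_eq_zero, residue_eq_zero_iff] at h0
    exact h0 (IsLocalization.map_units (X.presheaf.stalk x) c)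
  have hψc : ∀ c, ψ (gX c) = τ c := fun c => IsLocalization.lift_eq _ c
  have hψr : ∀ s, residue T (ψ s) = α (residue _ s) := by
    have : (residue T).comp ψ = α.comp (residue _) := IsLocalization.ringHom_ext M (RingHom.ext fun c => by
      show residue T (ψ (gX c)) = α (residue _ (gX c))
      rw [hψc, hτ'])
    exact fun s => congr($this s)
  haveI hψl : IsLocalHom ψ := ⟨fun s hs => by
    by_contra hn
    have := hψr s
    rw [(residue_eq_zero_iff s).mpr hn, map_zero, residue_eq_zero_iff] at this
    exact this hs⟩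
  have hψf : ψ.comp (f.stalkMap x).hom = φ := by
    letI := TopCat.Presheaf.algebra_section_stalk Y.presheaf (⟨f x, hVW hxV⟩ : W)
    haveI := hW.isLocalization_stalk ⟨f x, hVW hxV⟩
    refine IsLocalization.ringHom_ext (hW.primeIdealOf ⟨f x, hVW hxV⟩).asIdeal.primeCompl (RingHom.ext fun r => ?_)
    show ψ ((f.stalkMap x).hom (gY r)) = φ (gY r)
    rw [hsq, hψc]
    exact τ.commutes r
  haveI : HenselianLocalRing T := inferInstance
  obtain ⟨g, hg, hguniq⟩ := Hensel.IsHenselization.universal (R := X.presheaf.stalk x) (S := R) T ψ hψl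
  refine ⟨g, by rw [← hψf, ← hg]; rfl, fun g' hg' => hguniq g' ?_⟩
  let χ : X.presheaf.stalk x →+* T := g'.comp (algebraMap _ R)
  show χ = ψ
  have hχ : ∀ s, χ ((f.stalkMap x).hom s) = φ s := fun s => congr($hg' s)
  have hmax : (maximalIdeal (Y.presheaf.stalk (f x))).map (f.stalkMap x).hom = maximalIdeal (X.presheaf.stalk x) :=
    MorLib.WT.map_maximalIdeal_stalkMap f x
  have hχm : maximalIdeal (X.presheaf.stalk x) ≤ (maximalIdeal T).comap χ := by
    rw [← hmax, Ideal.map_le_iff_le_comap]
    intro s hs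
    show χ ((f.stalkMap x).hom s) ∈ maximalIdeal T
    rw [hχ]
    exact map_nonunit φ s hs
  have hres : ∀ s, residue T (χ s) = α (residue _ s) := fun s => by
    obtain ⟨t, ht⟩ := e.surjective (residue _ s)
    obtain ⟨t, rfl⟩ := residue_surjective t
    have ht' : residue _ ((f.stalkMap x).hom t) = residue _ s := ht
    have := hχm ((residue_eq_zero_iff _).1 (show residue _ (s - (f.stalkMap x).hom t) = 0 by rw [map_sub, ht', sub_self]))
    rw [Ideal.mem_comap, map_sub, hχ, ← residue_eq_zero_iff, map_sub, sub_eq_zero] at this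
    rw [this, ← ht', hα]
  refine IsLocalization.ringHom_ext M (RingHom.ext fun c => ?_)
  show χ (gX c) = ψ (gX c)
  rw [hψc]
  let τ' : Γ(X, V) →ₐ[Γ(Y, W)] T := AlgHom.mk (χ.comp gX) fun r => by
    show χ (gX (algebraMap Γ(Y, W) Γ(X, V) r)) = φ (gY r)
    rw [← hsq, hχ]
  exact congr($(huniq τ' (AlgHom.ext fun c => hres (gX c))) c)

end Groth.Agent.AlgSpElem
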